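import Mathlib

/-!
# Achinger's trick: etale algebras over affine space in characteristic `p` admit finite etale maps
-/

universe u v

open MvPolynomial Finset

namespace Groth.Agent.Achinger24

section substitution

variable {k : Type*} [Field k] {n : ℕ} (E : ℕ)

/-- `X 0 ↦ X 0`, `X i ↦ X i + c • X 0 ^ E ^ i`. -/
noncomputable abbrev T1 (c : k) :
    MvPolynomial (Fin (n + 1)) k →ₐ[k] MvPolynomial (Fin (n + 1)) k :=
  aeval fun i ↦ if i = 0 then X 0 else X i + c • X 0 ^ (E ^ i.1)

theorem t1_comp_t1_neg (c : k) :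
    (T1 (n := n) E c).comp (T1 E (-c)) = AlgHom.id _ _ := by
  rw [comp_aeval, ← MvPolynomial.aeval_X_left]
  ext i v
  cases i using Fin.cases <;> simp

/-- the substitution as an equivalence -/
noncomputable abbrev T : MvPolynomial (Fin (n + 1)) k ≃ₐ[k] MvPolynomial (Fin (n + 1)) k :=
  AlgEquiv.ofAlgHom (T1 E 1) (T1 E (-1))
    (t1_comp_t1_neg E 1) (by simpa using t1_comp_t1_neg E (-1 : k))

variable {E}

theorem sum_r_mul_ne {v w : Fin (n + 1) →₀ ℕ} (hE : 1 < E) (vlt : ∀ i, v i < E) (wlt : ∀ i, w i < E)
    (ne : v ≠ w) :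
    ∑ x : Fin (n + 1), E ^ x.1 * v x ≠ ∑ x : Fin (n + 1), E ^ x.1 * w x := by
  intro h
  refine ne <| Finsupp.ext <| congrFun <| List.ofFn_inj.mp ?_
  apply Nat.ofDigits_inj_of_len_eq hE (by simp)
    (by intro l hl; obtain ⟨i, rfl⟩ := List.mem_ofFn.mp hl; exact vlt i)
    (by intro l hl; obtain ⟨i, rfl⟩ := List.mem_ofFn.mp hl; exact wlt i)
  simpa only [Nat.ofDigits_eq_sum_mapIdx, List.mapIdx_eq_ofFn, List.get_ofFn, List.length_ofFn,
    Fin.val_cast, mul_comm, List.sum_ofFn] using! h

theorem degreeOf_zero_t (hE : 0 < E) (v : Fin (n + 1) →₀ ℕ) {a : k} (ha : a ≠ 0) :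
    ((T E) (monomial v a)).degreeOf 0 = ∑ i : Fin (n + 1), (E ^ i.1) * v i := by
  rw [← natDegree_finSuccEquiv, monomial_eq, Finsupp.prod_pow v fun a ↦ X a]
  simp only [Fin.prod_univ_succ, Fin.sum_univ_succ, map_mul, map_prod, map_pow,
    AlgEquiv.ofAlgHom_apply, MvPolynomial.aeval_C, MvPolynomial.aeval_X, if_pos, Fin.succ_ne_zero,
    ite_false, one_smul, map_add, finSuccEquiv_X_zero, finSuccEquiv_X_succ, algebraMap_eq]
  have h (i : Fin n) :
      (Polynomial.C (X (R := k) i) + Polynomial.X ^ (E ^ i.succ.1)) ^ v i.succ ≠ 0 := by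
    apply pow_ne_zero
    rw [add_comm]
    exact (Polynomial.monic_X_pow_add_C _ (pow_pos hE _).ne').ne_zero
  rw [Polynomial.natDegree_mul (by simp [ha]) (mul_ne_zero (by simp) (Finset.prod_ne_zero_iff.mpr
    (fun i _ ↦ h i))), Polynomial.natDegree_mul (by simp) (Finset.prod_ne_zero_iff.mpr (fun i _ ↦ h i)),
    Polynomial.natDegree_prod _ _ (fun i _ ↦ h i), natDegree_finSuccEquiv, degreeOf_C]
  simpa only [Polynomial.natDegree_pow, zero_add, Polynomial.natDegree_X, mul_one, Fin.val_zero,
    pow_zero, one_mul, add_right_inj] using Finset.sum_congr rfl (fun i _ ↦ by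
    rw [add_comm (Polynomial.C _), Polynomial.natDegree_X_pow_add_C, mul_comm])

theorem leadingCoeff_finSuccEquiv_t (hE : 0 < E) (f : MvPolynomial (Fin (n + 1)) k)
    (v : Fin (n + 1) →₀ ℕ) :
    (finSuccEquiv k n ((T E) ((monomial v) (coeff v f)))).leadingCoeff =
    algebraMap k _ (coeff v f) := by
  rw [monomial_eq, Finsupp.prod_fintype]
  · simp only [map_mul, map_prod, Polynomial.leadingCoeff_mul, Polynomial.leadingCoeff_prod]
    rw [AlgEquiv.ofAlgHom_apply, algHom_C, algebraMap_eq, finSuccEquiv_apply,
      eval₂Hom_C, RingHom.coe_comp]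
    simp only [AlgEquiv.ofAlgHom_apply, Function.comp_apply, Polynomial.leadingCoeff_C, map_pow,
      Polynomial.leadingCoeff_pow, algebraMap_eq]
    have : ∀ j, ((finSuccEquiv k n) ((T1 E) 1 (X j))).leadingCoeff = 1 := fun j ↦ by
      by_cases h : j = 0
      · simp [h, finSuccEquiv_apply]
      · simp only [aeval_eq_bind₁, bind₁_X_right, if_neg h, one_smul, map_add, map_pow]
        obtain ⟨i, rfl⟩ := Fin.exists_succ_eq.mpr h
        simp [finSuccEquiv_X_succ, finSuccEquiv_X_zero, add_comm,
          Polynomial.leadingCoeff_X_pow_add_C (pow_pos hE (i.1 + 1))]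
    simp only [this, one_pow, Finset.prod_const_one, mul_one]
  exact fun i ↦ pow_zero _

theorem T_leadingcoeff_isUnit {f : MvPolynomial (Fin (n + 1)) k} (hE : f.totalDegree + 1 < E)
    (fne : f ≠ 0) : IsUnit (finSuccEquiv k n (T E f)).leadingCoeff := by
  obtain ⟨v, vin, vs⟩ := Finset.exists_max_image f.support
    (fun v ↦ (T E ((monomial v) (coeff v f))).degreeOf 0) (support_nonempty.mpr fne)
  set h := fun w ↦ (MvPolynomial.monomial w) (coeff w f)
  simp only [← natDegree_finSuccEquiv] at vs
  replace vs : ∀ x ∈ f.support \ {v}, (finSuccEquiv k n ((T E) (h x))).degree <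
      (finSuccEquiv k n ((T E) (h v))).degree := by
    intro x hx
    obtain ⟨h1, h2⟩ := Finset.mem_sdiff.mp hx
    apply Polynomial.degree_lt_degree <| lt_of_le_of_ne (vs x h1) ?_
    rw [natDegree_finSuccEquiv, natDegree_finSuccEquiv,
      degreeOf_zero_t (by lia) _ (mem_support_iff.mp h1), degreeOf_zero_t (by lia) _ (mem_support_iff.mp vin)]
    have hne : x ≠ v := fun e => h2 (Finset.mem_singleton.mpr e)
    have hb : ∀ u ∈ f.support, ∀ i, u i < E := by
      intro u hu i
      have e1 : u i ≤ f.degreeOf i := monomial_le_degreeOf i hu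
      have e2 : f.degreeOf i ≤ f.totalDegree := degreeOf_le_totalDegree f i
      omega
    exact sum_r_mul_ne (v := x) (w := v) (by omega) (hb x h1) (hb v vin) hne
  have coeff : (finSuccEquiv k n ((T E) (h v + ∑ x ∈ f.support \ {v}, h x))).leadingCoeff =
      (finSuccEquiv k n ((T E) (h v))).leadingCoeff := by
    simp only [map_add, map_sum]
    rw [add_comm]
    apply Polynomial.leadingCoeff_add_of_degree_lt <|
      (lt_of_le_of_lt <| Polynomial.degree_sum_le _ _) ?_
    have h2 : h v ≠ 0 := by simpa [h] using mem_support_iff.mp vin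
    replace h2 : (finSuccEquiv k n ((T E) (h v))) ≠ 0 := fun eq ↦ h2 <|
      by simpa only [map_eq_zero_iff _ (AlgEquiv.injective _)] using eq
    exact (Finset.sup_lt_iff <| Ne.bot_lt (fun x ↦ h2 <| Polynomial.degree_eq_bot.mp x)).mpr vs
  nth_rw 1 [← f.support_sum_monomial_coeff]
  rw [Finset.sum_eq_add_sum_sdiff_singleton_of_mem vin h]
  have hE0 : 0 < E := by omega
  rw [coeff, leadingCoeff_finSuccEquiv_t hE0 f v, algebraMap_eq]
  exact (mem_support_iff.mp vin).isUnit.map MvPolynomial.C

end substitution

/-- An element algebraic over the values of `x` becomes integral after perturbing `x` by powers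
with exponent divisible by `p`. -/
theorem exists_integral_perturbation {k : Type*} [Field k] {C : Type*} [CommRing C] [Algebra k C]
    {n : ℕ} (x : Fin n → C) (y : C) (f : MvPolynomial (Fin (n + 1)) k) (hf : f ≠ 0)
    (hroot : aeval (Fin.cons y x) f = 0) (p : ℕ) (hp : 0 < p) :
    ∃ e : Fin n → ℕ, (∀ i, p ∣ e i) ∧
      (aeval fun i => x i - y ^ e i : MvPolynomial (Fin n) k →ₐ[k] C).toRingHom.IsIntegralElem y := by
  obtain ⟨E, hE, hpE⟩ : ∃ E, f.totalDegree + 1 < E ∧ p ∣ E :=
    ⟨p * (f.totalDegree + 2), by nlinarith, Dvd.intro _ rfl⟩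
  refine ⟨fun i => E ^ (i.1 + 1), fun i => hpE.trans (dvd_pow_self E (by omega)), ?_⟩
  set x' : Fin n → C := fun i => x i - y ^ E ^ (i.1 + 1) with hx'
  set g := finSuccEquiv k n (T E f) with hg
  have hu : IsUnit g.leadingCoeff := T_leadingcoeff_isUnit hE hf
  have key : ∀ q : MvPolynomial (Fin (n + 1)) k,
      Polynomial.eval₂ (aeval x' : MvPolynomial (Fin n) k →ₐ[k] C).toRingHom y
        (finSuccEquiv k n q) = aeval (Fin.cons y x') q := by
    intro q
    induction q using MvPolynomial.induction_on with
    | C a => simp [finSuccEquiv_apply]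
    | add p q hp hq => simp only [map_add, Polynomial.eval₂_add, hp, hq]
    | mul_X p i hp =>
      rw [map_mul, Polynomial.eval₂_mul, hp, map_mul]
      congr 1
      cases i using Fin.cases with
      | zero => simp [finSuccEquiv_X_zero]
      | succ i => simp [finSuccEquiv_X_succ]
  have h0 : Polynomial.eval₂ (aeval x' : MvPolynomial (Fin n) k →ₐ[k] C).toRingHom y g = 0 := by
    rw [hg, key, AlgEquiv.ofAlgHom_apply, ← AlgHom.comp_apply, comp_aeval, ← hroot]
    congr 2
    funext i
    cases i using Fin.cases with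
    | zero => simp
    | succ i => simp [hx']
  refine ⟨hu.unit⁻¹.val • g, Polynomial.monic_of_isUnit_leadingCoeff_inv_smul hu, ?_⟩
  rw [Polynomial.smul_eq_C_mul, Polynomial.eval₂_mul, h0, mul_zero]

/-- transitivity of integrality through a change of coordinates -/
theorem isIntegralElem_trans {k : Type*} [CommRing k] {C : Type*} [CommRing C] [Algebra k C]
    {σ τ : Type*} (x : σ → C) (x' : τ → C)
    (h : ∀ i, (aeval x' : MvPolynomial τ k →ₐ[k] C).toRingHom.IsIntegralElem (x i)) {z : C}
    (hz : (aeval x : MvPolynomial σ k →ₐ[k] C).toRingHom.IsIntegralElem z) :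
    (aeval x' : MvPolynomial τ k →ₐ[k] C).toRingHom.IsIntegralElem z := by
  letI : Algebra (MvPolynomial τ k) C := (aeval x').toRingHom.toAlgebra
  set A := integralClosure (MvPolynomial τ k) C
  obtain ⟨P, hP, hPz⟩ := hz
  have hmem : ∀ q : MvPolynomial σ k, (aeval x q : C) ∈ A := by
    intro q
    induction q using MvPolynomial.induction_on with
    | C a =>
      have : algebraMap (MvPolynomial τ k) C (MvPolynomial.C a) = aeval x (MvPolynomial.C a) := by
        rw [RingHom.algebraMap_toAlgebra]; simp
      rw [← this]; exact A.algebraMap_mem _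
    | add p q hp hq => rw [map_add]; exact A.add_mem hp hq
    | mul_X p i hp => rw [map_mul, aeval_X]; exact A.mul_mem hp (h i)
  let φ : MvPolynomial σ k →+* A := (aeval x).toRingHom.codRestrict A hmem
  have : IsIntegral A z := by
    refine ⟨P.map φ, hP.map _, ?_⟩
    rw [Polynomial.eval₂_map]
    exact hPz
  exact isIntegral_trans (A := A) z this

/-- in an etale algebra over a polynomial ring every element is algebraic over it -/
theorem exists_relation {k : Type u} [Field k] {C : Type u} [CommRing C] [Algebra k C] {n : ℕ}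
    (x : Fin n → C) (hx : (aeval x : MvPolynomial (Fin n) k →ₐ[k] C).toRingHom.Etale) (y : C) :
    ∃ f : MvPolynomial (Fin (n + 1)) k, f ≠ 0 ∧ aeval (Fin.cons y x) f = 0 := by
  set R := MvPolynomial (Fin n) k
  letI : Algebra R C := (aeval x).toRingHom.toAlgebra
  haveI : Algebra.Etale R C := hx
  set K := FractionRing R
  haveI : Module.Finite K (TensorProduct R K C) := Algebra.FormallyUnramified.finite_of_free K _
  obtain ⟨P, hP, hPy⟩ : IsIntegral K ((1 : K) ⊗ₜ[R] y) := Algebra.IsIntegral.isIntegral _
  obtain ⟨b, hbm, hb⟩ := IsLocalization.integerNormalization_spec (nonZeroDivisors R) P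
  set Q := IsLocalization.integerNormalization (nonZeroDivisors R) P
  have hQ0 : Q ≠ 0 := by
    intro h0
    rw [h0, Polynomial.map_zero] at hb
    exact hP.ne_zero ((smul_eq_zero.mp hb.symm).resolve_left (nonZeroDivisors.ne_zero hbm))
  have hQy : Polynomial.aeval ((1 : K) ⊗ₜ[R] y) Q = 0 :=
    IsLocalization.integerNormalization_aeval_eq_zero (nonZeroDivisors R) P hPy
  have hQy' : Polynomial.aeval y Q = 0 := by
    apply Algebra.TensorProduct.includeRight_injective (R := R) (A := K) (B := C)
      (IsFractionRing.injective R K)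
    rw [map_zero, ← hQy]
    exact (Polynomial.aeval_algHom_apply Algebra.TensorProduct.includeRight y Q).symm
  refine ⟨(finSuccEquiv k n).symm Q, by simpa using hQ0, ?_⟩
  have key : ∀ q : MvPolynomial (Fin (n + 1)) k,
      Polynomial.aeval y (finSuccEquiv k n q) = aeval (Fin.cons y x) q := by
    intro q
    induction q using MvPolynomial.induction_on with
    | C a =>
      simp only [finSuccEquiv_apply, eval₂Hom_C, RingHom.coe_comp, Function.comp_apply,
        Polynomial.aeval_C, RingHom.algebraMap_toAlgebra]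
      simp
    | add p q hp hq => simp only [map_add, hp, hq]
    | mul_X p i hp =>
      rw [map_mul, map_mul, hp, map_mul]
      congr 1
      cases i using Fin.cases with
      | zero => simp [finSuccEquiv_X_zero]
      | succ i => simp [finSuccEquiv_X_succ, RingHom.algebraMap_toAlgebra]
  rw [← key, AlgEquiv.apply_symm_apply]
  exact hQy'

/-- changing coordinates without changing differentials preserves etaleness -/
theorem etale_of_D_eq {k : Type u} [Field k] {C : Type u} [CommRing C] [Algebra k C] {n : ℕ}
    (x x' : Fin n → C) (hx : (aeval x : MvPolynomial (Fin n) k →ₐ[k] C).toRingHom.Etale)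
    (hD : ∀ i, KaehlerDifferential.D k C (x' i) = KaehlerDifferential.D k C (x i)) :
    (aeval x' : MvPolynomial (Fin n) k →ₐ[k] C).toRingHom.Etale := by
  set R := MvPolynomial (Fin n) k
  have h1 : Algebra.FinitePresentation k C ∧ Algebra.FormallySmooth k C ∧
      ∃ b : Module.Basis (Fin n) C (Ω[C⁄k]), ∀ i, b i = KaehlerDifferential.D k C (x i) := by
    letI : Algebra R C := (aeval x).toRingHom.toAlgebra
    haveI : IsScalarTower k R C := IsScalarTower.of_algebraMap_eq fun a => by
      rw [RingHom.algebraMap_toAlgebra]; simp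
    haveI : Algebra.Etale R C := hx
    refine ⟨Algebra.FinitePresentation.trans k R C, Algebra.FormallySmooth.comp k R C,
      ((KaehlerDifferential.mvPolynomialBasis k (Fin n)).baseChange C).map
        (KaehlerDifferential.tensorKaehlerEquivOfFormallyEtale k R C), fun i => ?_⟩
    rw [Module.Basis.map_apply, Module.Basis.baseChange_apply,
      KaehlerDifferential.mvPolynomialBasis_apply,
      KaehlerDifferential.tensorKaehlerEquivOfFormallyEtale_apply,
      KaehlerDifferential.mapBaseChange_tmul, one_smul, KaehlerDifferential.map_D,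
      RingHom.algebraMap_toAlgebra]
    exact congrArg (KaehlerDifferential.D k C) (aeval_X x i)
  obtain ⟨hfp, hfs, b, hb⟩ := h1
  letI : Algebra R C := (aeval x').toRingHom.toAlgebra
  haveI : IsScalarTower k R C := IsScalarTower.of_algebraMap_eq fun a => by
    rw [RingHom.algebraMap_toAlgebra]; simp
  have hbij : Function.Bijective (KaehlerDifferential.mapBaseChange k R C) := by
    have he : KaehlerDifferential.mapBaseChange k R C =
        (((KaehlerDifferential.mvPolynomialBasis k (Fin n)).baseChange C).equiv b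
          (Equiv.refl _)).toLinearMap := by
      apply ((KaehlerDifferential.mvPolynomialBasis k (Fin n)).baseChange C).ext
      intro i
      rw [LinearEquiv.coe_coe, Module.Basis.equiv_apply, Equiv.refl_apply, hb, ← hD,
        Module.Basis.baseChange_apply, KaehlerDifferential.mvPolynomialBasis_apply,
        KaehlerDifferential.mapBaseChange_tmul, one_smul, KaehlerDifferential.map_D,
        RingHom.algebraMap_toAlgebra]
      exact congrArg (KaehlerDifferential.D k C) (aeval_X x' i)
    rw [he]
    exact LinearEquiv.bijective _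
  have hfp' : Algebra.FinitePresentation R C :=
    Algebra.FinitePresentation.of_restrict_scalars_finitePresentation k R C
  have hΩ : Subsingleton (Ω[C⁄R]) := by
    refine ⟨fun a c => ?_⟩
    have hz : ∀ a : Ω[C⁄R], a = 0 := by
      intro a
      obtain ⟨a, rfl⟩ := KaehlerDifferential.map_surjective k R C a
      exact (KaehlerDifferential.exact_mapBaseChange_map k R C a).mpr (hbij.2 a)
    rw [hz a, hz c]
  have hH : Subsingleton (Algebra.H1Cotangent R C) := by
    refine ⟨fun a c => ?_⟩
    have hz : ∀ a : Algebra.H1Cotangent R C, a = 0 := by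
      intro a
      have hd : Algebra.H1Cotangent.δ k R C a = 0 :=
        hbij.1 (by rw [map_zero, Algebra.H1Cotangent.exact_δ_mapBaseChange k R C |>.apply_apply_eq_zero])
      obtain ⟨a, rfl⟩ := (Algebra.H1Cotangent.exact_map_δ k R C a).mp hd
      rw [Subsingleton.elim a 0, map_zero]
    rw [hz a, hz c]
  haveI : Algebra.FormallyEtale R C := ⟨hΩ, hH⟩
  exact (⟨inferInstance, hfp'⟩ : Algebra.Etale R C)

/-- **Achinger**: an algebra etale over affine space in characteristic `p` admits a finite etale
map from affine space. -/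
theorem exists_finite_etale {k : Type u} [Field k] (p : ℕ) [Fact p.Prime] [CharP k p]
    {C : Type u} [CommRing C] [Algebra k C] {n : ℕ} (x : Fin n → C)
    (hx : (aeval x : MvPolynomial (Fin n) k →ₐ[k] C).toRingHom.Etale) :
    ∃ x' : Fin n → C, (aeval x' : MvPolynomial (Fin n) k →ₐ[k] C).toRingHom.Finite ∧
      (aeval x' : MvPolynomial (Fin n) k →ₐ[k] C).toRingHom.Etale := by
  classical
  have step : ∀ s : Finset C, ∃ x' : Fin n → C,
      (aeval x' : MvPolynomial (Fin n) k →ₐ[k] C).toRingHom.Etale ∧
      ∀ z ∈ s, (aeval x' : MvPolynomial (Fin n) k →ₐ[k] C).toRingHom.IsIntegralElem z := by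
    intro s
    induction s using Finset.induction_on with
    | empty => exact ⟨x, hx, by simp⟩
    | @insert y s _ ih =>
      obtain ⟨x₁, hx₁, hs⟩ := ih
      obtain ⟨f, hf, hroot⟩ := exists_relation x₁ hx₁ y
      obtain ⟨e, he, hy⟩ := exists_integral_perturbation x₁ y f hf hroot p (Fact.out : p.Prime).pos
      refine ⟨fun i => x₁ i - y ^ e i, etale_of_D_eq x₁ _ hx₁ (fun i => ?_), ?_⟩
      · have hp0 : ((e i : ℕ) : k) = 0 := (CharP.cast_eq_zero_iff k p _).mpr (he i)
        rw [map_sub, Derivation.leibniz_pow, ← Nat.cast_smul_eq_nsmul k, hp0, zero_smul, sub_zero]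
      · intro z hz
        rcases Finset.mem_insert.mp hz with rfl | hz
        · exact hy
        · refine isIntegralElem_trans x₁ _ (fun i => ?_) (hs z hz)
          letI := (aeval fun i => x₁ i - y ^ e i :
            MvPolynomial (Fin n) k →ₐ[k] C).toRingHom.toAlgebra
          have h1 : IsIntegral (MvPolynomial (Fin n) k) (x₁ i - y ^ e i) := by
            have := isIntegral_algebraMap (R := MvPolynomial (Fin n) k) (A := C)
              (x := (MvPolynomial.X i : MvPolynomial (Fin n) k))
            rwa [RingHom.algebraMap_toAlgebra, AlgHom.toRingHom_eq_coe, RingHom.coe_coe, aeval_X] at this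
          have h2 : IsIntegral (MvPolynomial (Fin n) k) (y ^ e i) := IsIntegral.pow hy _
          have h3 := h1.add h2
          rwa [sub_add_cancel] at h3
  letI : Algebra (MvPolynomial (Fin n) k) C := (aeval x).toRingHom.toAlgebra
  haveI : IsScalarTower k (MvPolynomial (Fin n) k) C := IsScalarTower.of_algebraMap_eq fun a => by
    rw [RingHom.algebraMap_toAlgebra]; simp
  haveI : Algebra.Etale (MvPolynomial (Fin n) k) C := hx
  haveI : Algebra.FiniteType k C :=
    Algebra.FiniteType.trans (R := k) (S := MvPolynomial (Fin n) k) (A := C) inferInstance inferInstance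
  obtain ⟨s, hs⟩ := ‹Algebra.FiniteType k C›.out
  obtain ⟨x', hx', hint⟩ := step s
  refine ⟨x', ?_, hx'⟩
  have hI : (aeval x' : MvPolynomial (Fin n) k →ₐ[k] C).toRingHom.IsIntegral := by
    intro z
    have hz : z ∈ Algebra.adjoin k (s : Set C) := hs ▸ Algebra.mem_top
    induction hz using Algebra.adjoin_induction with
    | mem z hz => exact hint z hz
    | algebraMap a =>
      have := RingHom.isIntegralElem_map (f := (aeval x' :
        MvPolynomial (Fin n) k →ₐ[k] C).toRingHom) (x := MvPolynomial.C a)
      simpa using this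
    | add a c _ _ ha hc => exact RingHom.IsIntegralElem.add _ ha hc
    | mul a c _ _ ha hc => exact RingHom.IsIntegralElem.mul _ ha hc
  refine hI.to_finite ?_
  letI := (aeval x' : MvPolynomial (Fin n) k →ₐ[k] C).toRingHom.toAlgebra
  haveI : Algebra.Etale (MvPolynomial (Fin n) k) C := hx'
  exact (inferInstanceAs (Algebra.FiniteType (MvPolynomial (Fin n) k) C))

end Groth.Agent.Achinger24
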